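import Groth.Agent.Dual6Lib.BCFormal
import Mathlib.CategoryTheory.Adjunction.Mates

/-!
# Values of right adjoints through base change maps, formally
-/

set_option autoImplicit false
set_option linter.style.haveILetI false

universe v₁ v₂ v₃ v₄ u₁ u₂ u₃ u₄

open CategoryTheory

namespace Groth.Agent.DualGorBC

open Groth.Agent.Dual6Lib

variable {A : Type u₁} [Category.{v₁} A] {B : Type u₂} [Category.{v₂} B]
  {A' : Type u₃} [Category.{v₃} A'] {B' : Type u₄} [Category.{v₄} B']
  {F : A ⥤ B} {G : B ⥤ A} {F' : A' ⥤ B'} {G' : B' ⥤ A'} {L : B ⥤ B'} {L' : A ⥤ A'} {R : B' ⥤ B} {R' : A' ⥤ A}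
  (adj : F ⊣ G) (adj' : F' ⊣ G') (adjg : L ⊣ R) (adjg' : L' ⊣ R') (τ : F ⋙ L ⟶ L' ⋙ F')
  (hτ : ∀ E, IsIso (τ.app E))

/-- The value of `G` at a map into a direct image, through the base change map. -/
theorem map_eq {K : B} {M : B'} (x : K ⟶ R.obj M) :
    G.map x = adjg'.unit.app (G.obj K) ≫
      R'.map (BCFormal.bs adj adj' τ hτ K ≫ G'.map ((adjg.homEquiv K M).symm x)) ≫
        (conjugateEquiv (adjg'.comp adj') (adj.comp adjg) τ).app M := by
  apply ((adj.comp adjg).homEquiv _ _).symm.injective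
  rw [Adjunction.homEquiv_counit, Adjunction.homEquiv_counit, Functor.map_comp, Functor.map_comp, Category.assoc,
    Category.assoc, conjugateEquiv_counit, adjg.homEquiv_counit]
  let ζ : L'.obj (G.obj K) ⟶ G'.obj M := BCFormal.bs adj adj' τ hτ K ≫ G'.map (L.map x ≫ adjg.counit.app M)
  have h1 := τ.naturality (adjg'.unit.app (G.obj K) ≫ R'.map ζ)
  simp only [Functor.map_comp, Functor.comp_map, Category.assoc] at h1
  have h2 : L'.map (adjg'.unit.app (G.obj K)) ≫ L'.map (R'.map ζ) ≫ adjg'.counit.app (G'.obj M) = ζ := by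
    erw [adjg'.counit_naturality, adjg'.left_triangle_components_assoc]
  have h3 : F.map (G.map x) ≫ adj.counit.app (R.obj M) = adj.counit.app K ≫ x := adj.counit_naturality x
  simp only [Adjunction.comp_counit_app, Functor.comp_map, Functor.comp_obj, Category.assoc]
  rw [reassoc_of% h1]
  simp only [← F'.map_comp_assoc, h2, Category.assoc]
  rw [← L.map_comp_assoc, h3, L.map_comp_assoc]
  simp only [ζ, Functor.map_comp, Category.assoc, adj'.counit_naturality, adj'.counit_naturality_assoc]
  rw [reassoc_of% (BCFormal.bs_spec adj adj' τ hτ K)]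

end Groth.Agent.DualGorBC
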