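import Groth.Agent.DualGorBC.Span
import Groth.Agent.DualGorBC.Formal
import Groth.Agent.S3626

/-!
# Base change of the dualizing complex of a Gorenstein morphism, over affine bases
-/

set_option autoImplicit false
set_option backward.isDefEq.respectTransparency false
set_option backward.defeqAttrib.useBackward true
set_option linter.style.haveILetI false
set_option linter.unusedSectionVars false
set_option synthInstance.maxHeartbeats 200000
set_option maxHeartbeats 1000000

universe u

open CategoryTheory CategoryTheory.Limits CategoryTheory.Pretriangulated DerivedCategory AlgebraicGeometry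
open Groth.Agent.DCat Groth.Agent.DQCoh Groth.Agent.Dual22Lib Groth.Agent.Dual6Lib

attribute [local instance] HasDerivedCategory.standard
attribute [-instance] Int.instConditionallyCompleteLinearOrder

namespace Groth.Agent.DualGorBC

/-- The direct image of the structure sheaf between affine schemes is generated by the scalars. -/
theorem span_push_one {T T' : Scheme.{u}} [IsAffine T] {B : Type u} [CommRing B] [T'.Over (Spec (CommRingCat.of B))]
    (hB : Function.Surjective (Coh.toGlobal (T' ↘ Spec (CommRingCat.of B)))) (g : T' ⟶ T)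
    (hq : Coh.IsQCoh ((Scheme.Modules.pushforward g).obj (Coh.structureModule T'))) (t : T) :
    Submodule.span (T.presheaf.stalk t) (⋃ b : B, Set.range ((DerSch.stalkFunctor T t).map
      ((SheafOfModules.unitToPushforwardObjUnit g.toRingCatSheafHom : Coh.structureModule T ⟶
          (Scheme.Modules.pushforward g).obj (Coh.structureModule T')) ≫
        (Scheme.Modules.pushforward g).map (b • 𝟙 (Coh.structureModule T')))).hom) = ⊤ := by
  let M := (Scheme.Modules.pushforward g).obj (Coh.structureModule T')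
  haveI : Coh.IsQCoh M := hq
  have hM := SerreDual.span_germ_top_eq_top (AmpleLib.globallyGenerated_of_isQuasiAffine M) t
  refine eq_top_iff.2 (hM ▸ Submodule.span_le.2 ?_)
  rintro _ ⟨s, rfl⟩
  refine Submodule.subset_span ?_
  obtain ⟨b, hb⟩ : ∃ b : B, Coh.toGlobal (T' ↘ Spec (CommRingCat.of B)) b = (show Γ(T', ⊤) from s) := hB _
  refine Set.mem_iUnion.2 ⟨b, (Coh.structureModule T).presheaf.germ ⊤ t (show t ∈ (⊤ : T.Opens) from trivial)
    (show Γ(T, ⊤) from 1), ?_⟩
  refine (ZClosLib.stalkMap_germ _ t (show t ∈ (⊤ : T.Opens) from trivial) _).trans (congrArg _ ?_)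
  show ((b • 𝟙 (Coh.structureModule T')).app (g ⁻¹ᵁ ⊤)).hom (g.app ⊤ (1 : Γ(T, ⊤))) = s
  refine (KLin.smul_app_apply ..).trans ?_
  show T'.presheaf.map (homOfLE (le_top : g ⁻¹ᵁ ⊤ ≤ ⊤)).op (Coh.toGlobal (T' ↘ Spec (CommRingCat.of B)) b) *
    (g.app ⊤ (1 : Γ(T, ⊤))) = s
  rw [hb, map_one, mul_one]
  show T'.presheaf.map (𝟙 _) _ = _
  rw [CategoryTheory.Functor.map_id]
  rfl

/-- Surjectivity in cohomology from generators that factor through a map. -/
theorem epi_of_span {X : Scheme.{u}} {ι : Type u} {P Q Q' : X.Modules} (σ : ι → (P ⟶ Q)) (φ : Q' ⟶ Q)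
    (hfac : ∀ i, σ i ≫ cokernel.π φ = 0)
    (hgen : ∀ x : X, Submodule.span (X.presheaf.stalk x)
      (⋃ i, Set.range ((DerSch.stalkFunctor X x).map (σ i)).hom) = ⊤) : Epi φ := by
  suffices H : IsIso (0 : cokernel φ ⟶ cokernel φ) from
    Preadditive.epi_of_isZero_cokernel _ ((IsZero.iff_id_eq_zero _).2 (by rw [← IsIso.hom_inv_id (0 : cokernel φ ⟶ cokernel φ), zero_comp]))
  refine (ZClosLib.isIso_of_bijective_stalk (0 : cokernel φ ⟶ cokernel φ) fun x => ?_)
  let S := DerSch.stalkFunctor X x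
  have hs : Function.Surjective (S.map (cokernel.π φ)).hom := (ModuleCat.epi_iff_surjective _).1 inferInstance
  have h0 : ∀ z : S.obj Q, (S.map (cokernel.π φ)).hom z = 0 := fun z => by
    have hz : z ∈ Submodule.span (X.presheaf.stalk x) (⋃ i, Set.range (S.map (σ i)).hom) := by
      rw [hgen x]; trivial
    induction hz using Submodule.span_induction with
    | mem m hm =>
      obtain ⟨i, n, rfl⟩ := Set.mem_iUnion.1 hm
      have h := congrArg S.map (hfac i)
      rw [Functor.map_comp, Functor.map_zero] at h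
      exact ConcreteCategory.congr_hom h n
    | zero => exact map_zero _
    | add a b _ _ ha hb => rw [map_add, ha, hb, add_zero]
    | smul c a _ ha => rw [map_smul, ha, smul_zero]
  haveI : Subsingleton (S.obj (cokernel φ)) := ⟨fun a b => by
    obtain ⟨a', rfl⟩ := hs a
    obtain ⟨b', rfl⟩ := hs b
    rw [h0 a', h0 b']⟩
  exact ⟨fun a b _ => Subsingleton.elim (α := S.obj (cokernel φ)) a b,
    fun b => ⟨b, Subsingleton.elim (α := S.obj (cokernel φ)) _ b⟩⟩

variable [∀ (U V : Scheme.{u}) (j : U ⟶ V) [IsOpenImmersion j], PreservesFiniteLimits (Scheme.Modules.restrictFunctor j)]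

variable {X T X' T' : Scheme.{u}} (f : X ⟶ T) (g : T' ⟶ T) (f' : X' ⟶ T') (g' : X' ⟶ X)
  [DCoh.HasRpush f] [DCoh.HasRpush f'] [DCoh.HasRpush g] [DCoh.HasRpush g'] [DCoh.HasLpull g] [DCoh.HasLpull g']
  {hf : DCoh.RpushPreservesQCoh f} {hf' : DCoh.RpushPreservesQCoh f'} {hg : DCoh.RpushPreservesQCoh g}
  {hg' : DCoh.RpushPreservesQCoh g'} {hLg : Dual3.LpullPreservesQCoh g} {hLg' : Dual3.LpullPreservesQCoh g'}
  {a : DCoh.DQCoh T ⥤ DCoh.DQCoh X} {a' : DCoh.DQCoh T' ⥤ DCoh.DQCoh X'}

/-- **Base change of the dualizing complex, affine case.** -/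
theorem isIso_bs (hsq : IsPullback g' f' f g) [IsAffine T] [IsAffine T'] [IsNoetherian T] [IsNoetherian T']
    [IsProper f] [Flat f] (hG : Dual3.IsGorensteinMor f)
    (adj : DCoh.RpushQ f hf ⊣ a) (adj' : DCoh.RpushQ f' hf' ⊣ a')
    (adjg : Dual3.LpullQ g hLg ⊣ DCoh.RpushQ g hg) (adjg' : Dual3.LpullQ g' hLg' ⊣ DCoh.RpushQ g' hg')
    (τ : DCoh.RpushQ f hf ⋙ Dual3.LpullQ g hLg ⟶ Dual3.LpullQ g' hLg' ⋙ DCoh.RpushQ f' hf')
    (hτ : ∀ E, IsIso (τ.app E)) (O : DCoh.DQCoh T) (eO : O.obj ≅ DCoh.inD T (Coh.structureModule T)) :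
    IsIso (BCFormal.bs adj adj' τ hτ O) := by
  haveI : IsAffineHom g' := MorphismProperty.of_isPullback (P := @IsAffineHom) hsq.flip inferInstance
  haveI : IsProper f' := MorphismProperty.of_isPullback hsq inferInstance
  haveI : Flat f' := MorphismProperty.of_isPullback hsq inferInstance
  have hG' : Dual3.IsGorensteinMor f' := fun v => (Groth.Agent.S3626.result X T X' T' f g f' g' hsq v).2 (hG _)
  haveI hOqc : Coh.IsQCoh (Coh.structureModule T') := Coherent.isQCoh_structureModule
  let O' : DCoh.DQCoh T' := ⟨DCoh.inD T' (Coh.structureModule T'), FlatBC14.isQCohD_inD _⟩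
  obtain ⟨l⟩ := RelRigid.nonempty_Lpull_structure g
  let O'' := (Dual3.LpullQ g hLg).obj O
  have hIω : Inv (a.obj O).obj := inv_shriek f hf a adj O ⟨eO⟩ hG
  have hIω' : Inv (a'.obj O').obj := inv_shriek f' hf' a' adj' O' ⟨Iso.refl _⟩ hG'
  have hIω'' : Inv (a'.obj O'').obj :=
    inv_shriek f' hf' a' adj' O'' ⟨(DCoh.Lpull g).mapIso eO ≪≫ l⟩ hG'
  have hIpull : Inv ((Dual3.LpullQ g' hLg').obj (a.obj O)).obj := hIω.pull g'
  -- scalars
  let B : Type u := Γ(T', ⊤)
  letI : T'.Over (Spec (CommRingCat.of B)) := ⟨T'.isoSpec.hom⟩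
  haveI : IsIso (T' ↘ Spec (CommRingCat.of B)) := inferInstanceAs (IsIso T'.isoSpec.hom)
  have hB : Function.Surjective (Coh.toGlobal (T' ↘ Spec (CommRingCat.of B))) :=
    (ConcreteCategory.bijective_of_isIso (T' ↘ Spec (CommRingCat.of B)).appTop).2.comp
      (ConcreteCategory.bijective_of_isIso (Scheme.ΓSpecIso (CommRingCat.of B)).inv).2
  letI : X'.Over (Spec (CommRingCat.of B)) := ⟨f' ≫ T'.isoSpec.hom⟩
  haveI : f'.IsOver (Spec (CommRingCat.of B)) := ⟨rfl⟩
  obtain ⟨_, _⟩ := DCat.exists_commShift_Rpush f'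
  haveI := BCShriekAffine.linear_Rpush (A := B) f'
  haveI : (DCoh.RpushQ f' hf').Additive := ⟨fun {_ _ _ _} => InducedCategory.hom_ext ((DCoh.Rpush f').map_add)⟩
  haveI : (DCoh.RpushQ f' hf').Linear B :=
    ⟨fun {_ _} x r => InducedCategory.hom_ext ((DCoh.Rpush f').map_smul r x.hom)⟩
  have ha' : ∀ b : B, a'.map (b • 𝟙 O') = b • 𝟙 (a'.obj O') := fun b => by
    apply (adj'.homEquiv _ _).symm.injective
    rw [adj'.homEquiv_counit, adj'.homEquiv_counit, adj'.counit_naturality, Functor.map_smul,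
      CategoryTheory.Functor.map_id, Linear.smul_comp, Category.id_comp, Linear.comp_smul, Category.comp_id]
  -- the generating maps
  let K₀ := (DCoh.RpushQ g hg).obj O'
  obtain ⟨eP, heP⟩ := DualLib.RelTop.exists_push_single g (Coh.structureModule T')
  obtain ⟨eK⟩ := DQCoh.nonempty_Rpush_inD g (Coh.structureModule T')
  let H0 := homologyFunctor T.Modules 0
  let η₁ : Coh.structureModule T ⟶ (Scheme.Modules.pushforward g).obj (Coh.structureModule T') :=
    SheafOfModules.unitToPushforwardObjUnit g.toRingCatSheafHom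
  let sO := singleFunctorCompHomologyFunctorIso T.Modules 0
  let αg : (Scheme.Modules.pushforward g).obj (Coh.structureModule T') ≅
      (Scheme.Modules.pushforward g).obj (Coh.structureModule T') :=
    (sO.app _).symm ≪≫ H0.mapIso eK.symm ≪≫ eP
  let u : O ⟶ K₀ :=
    InducedCategory.homMk (eO.hom ≫ (singleFunctor T.Modules 0).map (η₁ ≫ αg.inv) ≫ eK.inv)
  have hu : H0.map u.hom ≫ eP.hom = (H0.mapIso eO ≪≫ sO.app _).hom ≫ η₁ := by
    have hn : H0.map ((singleFunctor T.Modules 0).map (η₁ ≫ αg.inv)) = sO.hom.app _ ≫ (η₁ ≫ αg.inv) ≫ sO.inv.app _ := by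
      have := sO.hom.naturality (η₁ ≫ αg.inv)
      simp only [Functor.comp_map, Functor.id_map] at this
      rw [← cancel_mono (sO.hom.app _)]
      refine this.trans ?_
      simp only [Category.assoc]
      erw [Iso.inv_hom_id_app, Category.comp_id]
      rfl
    show H0.map (eO.hom ≫ (singleFunctor T.Modules 0).map (η₁ ≫ αg.inv) ≫ eK.inv) ≫ eP.hom = _
    rw [Functor.map_comp, Functor.map_comp, hn]
    have h2 : αg.hom = sO.inv.app _ ≫ H0.map eK.inv ≫ eP.hom := rfl
    simp only [Category.assoc]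
    erw [← h2]
    rw [Iso.inv_hom_id, Category.comp_id]
    simp
    rfl
  let q : B → (O ⟶ K₀) := fun b => u ≫ (DCoh.RpushQ g hg).map (b • 𝟙 O')
  have hq : ∀ b : B, H0.map (q b).hom ≫ eP.hom =
      (H0.mapIso eO ≪≫ sO.app _).hom ≫ η₁ ≫
        (Scheme.Modules.pushforward g).map (b • 𝟙 (Coh.structureModule T')) := fun b => by
    have hb : (b • 𝟙 O').hom = (singleFunctor T'.Modules 0).map (b • 𝟙 (Coh.structureModule T')) := by
      rw [Functor.map_smul, CategoryTheory.Functor.map_id]
      rfl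
    show H0.map (u.hom ≫ (DCoh.Rpush g).map (b • 𝟙 O').hom) ≫ eP.hom = _
    rw [hb, Functor.map_comp, Category.assoc]
    erw [heP, reassoc_of% hu]
  have hK₀q : Coh.IsQCoh ((Scheme.Modules.pushforward g).obj (Coh.structureModule T')) :=
    Coherent.isQCoh_of_iso eP (h := K₀.property 0)
  have hgen : ∀ (t : T) (k : ℤ), Submodule.span (T.presheaf.stalk t)
      (⋃ b, Set.range ((DerSch.stalkFunctor T t).map ((homologyFunctor T.Modules k).map (q b).hom)).hom) = ⊤ := by
    intro t k
    by_cases hk : k = 0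
    · subst hk
      refine DualLib.RelTop.span_range_of_eq_conj t (H0.mapIso eO ≪≫ sO.app _) eP.symm _
        (fun b => η₁ ≫ (Scheme.Modules.pushforward g).map (b • 𝟙 (Coh.structureModule T'))) (fun b => ?_)
        (span_push_one hB g hK₀q t)
      rw [← cancel_mono eP.hom]
      refine (hq b).trans ?_
      simp
    · haveI : Coh.IsQCoh ((Scheme.Modules.pushforward g).obj (Coh.structureModule T')) := hK₀q
      let N := DCoh.inD T ((Scheme.Modules.pushforward g).obj (Coh.structureModule T'))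
      haveI : N.IsGE 0 := (inferInstance : ((singleFunctor T.Modules 0).obj _).IsGE 0)
      haveI : N.IsLE 0 := (inferInstance : ((singleFunctor T.Modules 0).obj _).IsLE 0)
      have h0 : IsZero (DCoh.HD N k) := by
        rcases lt_or_gt_of_ne hk with h | h
        · exact isZero_of_isGE _ 0 _ h
        · exact isZero_of_isLE _ 0 _ h
      haveI : Subsingleton ↑((DerSch.stalkFunctor T t).obj ((homologyFunctor T.Modules k).obj K₀.obj)) :=
        ModuleCat.subsingleton_of_isZero ((DerSch.stalkFunctor T t).map_isZero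
          (h0.of_iso ((homologyFunctor T.Modules k).mapIso eK)))
      exact Subsingleton.elim _ _
  -- the comparison map
  haveI : ∀ E, IsIso (τ.app E) := hτ
  haveI : IsIso τ := NatIso.isIso_of_isIso_app τ
  let ξ := conjugateEquiv (adjg'.comp adj') (adj.comp adjg) τ
  haveI : IsIso ξ := conjugateEquiv_iso _ _ _
  let χ := BCFormal.bs adj adj' τ hτ O
  let γ : a'.obj O'' ⟶ a'.obj O' := a'.map ((adjg.homEquiv O O').symm u)
  let β := χ ≫ γ
  let R' := DCoh.RpushQ g' hg'
  let ψ := R'.map β ≫ ξ.app O'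
  have hfac : ∀ b : B, ∃ z : a.obj O ⟶ R'.obj ((Dual3.LpullQ g' hLg').obj (a.obj O)), a.map (q b) = z ≫ ψ := by
    intro b
    haveI := BCShriekAffine.linear_Rpush (A := B) f'
    refine ⟨adjg'.unit.app (a.obj O) ≫ R'.map (b • 𝟙 _), ?_⟩
    have h := map_eq adj adj' adjg adjg' τ hτ (q b)
    have h1 : χ ≫ a'.map ((adjg.homEquiv O O').symm (q b)) = (b • 𝟙 _) ≫ β := by
      show χ ≫ a'.map ((adjg.homEquiv O O').symm (u ≫ (DCoh.RpushQ g hg).map (b • 𝟙 O'))) = _
      rw [adjg.homEquiv_naturality_right_symm, Functor.map_comp, ha', Linear.smul_comp, Category.id_comp,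
        Linear.comp_smul, Category.comp_id, Linear.comp_smul]
    rw [h1] at h
    simp only [ψ, Category.assoc]
    refine h.trans ?_
    rw [Functor.map_comp, Category.assoc]
  have hψ : ∀ i : ℤ, Epi ((homologyFunctor X.Modules i).map ψ.hom) := fun i => by
    refine epi_of_span (fun b => (homologyFunctor X.Modules i).map (a.map (q b)).hom) _ (fun b => ?_) fun x =>
      span_range f hf a adj O ⟨eO⟩ hIω x K₀ q (hgen (f x)) i
    obtain ⟨z, hz⟩ := hfac b
    rw [hz]
    show (homologyFunctor X.Modules i).map (z.hom ≫ ψ.hom) ≫ _ = 0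
    rw [Functor.map_comp, Category.assoc, cokernel.condition, comp_zero]
  have hβ : ∀ i : ℤ, Epi ((homologyFunctor X'.Modules i).map β.hom) := by
    refine epi_hd_of_push g' ((Dual3.LpullQ g' hLg').obj (a.obj O)).property (a'.obj O').property
      (hg' _ ((Dual3.LpullQ g' hLg').obj (a.obj O)).property) (hg' _ (a'.obj O').property) β.hom fun i => ?_
    haveI : IsIso (ξ.app O').hom := Functor.map_isIso (ObjectProperty.ι _) (ξ.app O')
    haveI := hψ i
    have e : (homologyFunctor X.Modules i).map ((DCoh.Rpush g').map β.hom) =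
        (homologyFunctor X.Modules i).map ψ.hom ≫ inv ((homologyFunctor X.Modules i).map (ξ.app O').hom) := by
      rw [IsIso.eq_comp_inv, ← Functor.map_comp]
      rfl
    rw [e]
    infer_instance
  haveI : IsIso β.hom := isIso_of_epi hIpull hIω' β.hom hβ
  haveI : IsIso γ.hom := isIso_of_epi hIω'' hIω' γ.hom fun i => by
    haveI := hβ i
    haveI : Epi ((homologyFunctor X'.Modules i).map χ.hom ≫ (homologyFunctor X'.Modules i).map γ.hom) := by
      rw [← Functor.map_comp]; exact hβ i
    exact epi_of_epi ((homologyFunctor X'.Modules i).map χ.hom) _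
  haveI : IsIso (χ.hom ≫ γ.hom) := ‹IsIso β.hom›
  haveI : IsIso ((ObjectProperty.ι _).map χ) := IsIso.of_isIso_comp_right χ.hom γ.hom
  exact (ObjectProperty.fullyFaithfulι _).isIso_of_isIso_map χ

end Groth.Agent.DualGorBC
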