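import Groth.Agent.DualGorBC.Global
import Groth.Agent.BCFlat16.FMObj

/-!
# Dualizing complexes concentrated in one degree
-/

set_option autoImplicit false
set_option backward.isDefEq.respectTransparency false
set_option backward.defeqAttrib.useBackward true
set_option linter.style.haveILetI false
set_option linter.unusedSectionVars false
set_option synthInstance.maxHeartbeats 200000
set_option maxHeartbeats 1000000

universe u

open CategoryTheory CategoryTheory.Limits CategoryTheory.Pretriangulated DerivedCategory AlgebraicGeometry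
open Groth.Agent.DCat

attribute [local instance] HasDerivedCategory.standard
attribute [-instance] Int.instConditionallyCompleteLinearOrder

namespace Groth.Agent.DualGorBC

variable [∀ (U V : Scheme.{u}) (j : U ⟶ V) [IsOpenImmersion j], PreservesFiniteLimits (Scheme.Modules.restrictFunctor j)]

variable {X Z : Scheme.{u}}

theorem isZero_of_subsingleton_stalks' (M : X.Modules) (h : ∀ x, Subsingleton (M.presheaf.stalk x)) : IsZero M := by
  refine (IsZero.iff_id_eq_zero M).2 (Scheme.Modules.hom_ext _ _ fun U => ?_)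
  ext s
  exact TopCat.Presheaf.section_ext ⟨M.presheaf, M.isSheaf⟩ U _ _ fun x hx => (h x).elim _ _

/-- Locally the structure sheaf in degree `-n`. -/
def InvDeg (K : DCoh.D X) (n : ℤ) : Prop :=
  ∀ x : X, ∃ (V : Scheme.{u}) (j : V ⟶ X) (_ : IsOpenImmersion j) (w : V), j w = x ∧
    Nonempty ((DCoh.restrictD j).obj K ≅ (DCoh.inD V (Coh.structureModule V))⟦n⟧)

/-- A chart pins the degree of the nonzero stalk. -/
theorem chart_stalks {K : DCoh.D X} {V : Scheme.{u}} (j : V ⟶ X) [IsOpenImmersion j] (w : V) {n : ℤ}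
    (eV : (DCoh.restrictD j).obj K ≅ (DCoh.inD V (Coh.structureModule V))⟦n⟧) :
    RelCanon.InvertibleAt (DCoh.HD K (-n)) (j w) ∧
      ∀ i : ℤ, i ≠ -n → Subsingleton ((DCoh.HD K i).presheaf.stalk (j w)) := by
  let O' := Coh.structureModule V
  let e : ∀ i : ℤ, (DCoh.HD K i).restrict j ≅ DCoh.HD (DCoh.inD V O') (n + i) := fun i =>
    (DCat.SuppOpen.hdMapIso (Scheme.Modules.restrictFunctor j) K i).symm ≪≫ (homologyFunctor _ i).mapIso eV ≪≫
      ((homologyFunctor V.Modules 0).shiftIso n i (n + i) rfl).app _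
  refine ⟨DualLib.RelTop.invertibleAt_of_immersion j
    (e (-n) ≪≫ eqToIso (congrArg (fun k : ℤ => DCoh.HD (DCoh.inD V O') k) (add_neg_cancel n)) ≪≫
      (singleFunctorCompHomologyFunctorIso V.Modules 0).app O') w, fun i hi => ?_⟩
  haveI : (DCoh.inD V O').IsGE 0 := (inferInstance : ((singleFunctor V.Modules 0).obj O').IsGE 0)
  haveI : (DCoh.inD V O').IsLE 0 := (inferInstance : ((singleFunctor V.Modules 0).obj O').IsLE 0)
  have h0 : IsZero (DCoh.HD (DCoh.inD V O') (n + i)) := by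
    rcases lt_or_gt_of_ne (show n + i ≠ 0 by omega) with h | h
    · exact isZero_of_isGE _ 0 _ h
    · exact isZero_of_isLE _ 0 _ h
  exact DCat.SuppOpen.subsingleton_stalk_of_restrict j _ _
    (DCat.SuppOpen.subsingleton_of_isZero_stalkFunctor _ _ ((DerSch.stalkFunctor V w).map_isZero (h0.of_iso (e i))))

/-- The degree of a chart where the cohomology is concentrated in one degree. -/
theorem chart_degree {K : DCoh.D X} {n : ℤ} (hz : ∀ i : ℤ, i ≠ -n → IsZero (DCoh.HD K i))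
    {V : Scheme.{u}} (j : V ⟶ X) [IsOpenImmersion j] (w : V) {m : ℤ}
    (eV : (DCoh.restrictD j).obj K ≅ (DCoh.inD V (Coh.structureModule V))⟦m⟧) : m = n := by
  by_contra hne
  obtain ⟨h1, -⟩ := chart_stalks j w eV
  obtain ⟨eM⟩ := DualLib.RelTop.exists_stalk_equiv_of_invertibleAt h1
  haveI : Subsingleton ((DCoh.HD K (-m)).presheaf.stalk (j w)) :=
    DCat.SuppOpen.subsingleton_of_isZero_stalkFunctor _ _
      ((DerSch.stalkFunctor X (j w)).map_isZero (hz (-m) (by omega)))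
  haveI := eM.symm.injective.subsingleton
  exact false_of_nontrivial_of_subsingleton (X.presheaf.stalk (j w))

theorem InvDeg.of_inv {K : DCoh.D X} {n : ℤ} (hK : Inv K) (hz : ∀ i : ℤ, i ≠ -n → IsZero (DCoh.HD K i)) :
    InvDeg K n := fun x => by
  obtain ⟨V, j, _, w, m, hw, ⟨eV⟩⟩ := hK x
  obtain rfl := chart_degree hz j w eV
  exact ⟨V, j, inferInstance, w, hw, ⟨eV⟩⟩

theorem InvDeg.isZero {K : DCoh.D X} {n : ℤ} (hK : InvDeg K n) (i : ℤ) (hi : i ≠ -n) : IsZero (DCoh.HD K i) :=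
  isZero_of_subsingleton_stalks' _ fun x => by
    obtain ⟨V, j, _, w, rfl, ⟨eV⟩⟩ := hK x
    exact (chart_stalks j w eV).2 i hi

theorem InvDeg.isInvertible {K : DCoh.D X} {n : ℤ} (hK : InvDeg K n) : PicF.IsInvertible (DCoh.HD K (-n)) :=
  (RelCanon.isInvertible_iff_invertibleAt _).2 fun x => by
    obtain ⟨V, j, _, w, rfl, ⟨eV⟩⟩ := hK x
    exact (chart_stalks j w eV).1

theorem InvDeg.of_iso {K L : DCoh.D X} {n : ℤ} (hK : InvDeg K n) (e : K ≅ L) : InvDeg L n := fun x => by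
  obtain ⟨V, j, _, w, hw, ⟨eV⟩⟩ := hK x
  exact ⟨V, j, inferInstance, w, hw, ⟨(DCoh.restrictD j).mapIso e.symm ≪≫ eV⟩⟩

/-- The degree descends along surjective maps. -/
theorem InvDeg.descend {K : DCoh.D X} {n : ℤ} (hK : Inv K) (p : Z ⟶ X) [Surjective p] [DCoh.HasLpull p]
    (hp : InvDeg ((DCoh.Lpull p).obj K) n) : InvDeg K n := by
  intro x
  obtain ⟨z, rfl⟩ := p.surjective x
  obtain ⟨V, j, _, w, m, hw, ⟨eV⟩⟩ := hK (p z)
  let W : Z.Opens := p ⁻¹ᵁ j.opensRange
  have hz : z ∈ W := ⟨w, hw⟩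
  let q : (W : Scheme.{u}) ⟶ V := IsOpenImmersion.lift j (W.ι ≫ p) (by
    rintro _ ⟨t, rfl⟩
    exact t.2)
  have hq : q ≫ j = W.ι ≫ p := IsOpenImmersion.lift_fac _ _ _
  haveI := DCat.hasLpull W.ι
  haveI := DCat.hasLpull j
  haveI := DCat.hasLpull q
  haveI := DCat.hasLpull (W.ι ≫ p)
  haveI := DCat.hasLpull (q ≫ j)
  obtain ⟨r₁⟩ := DQCoh.nonempty_Lpull_restrict W.ι ((DCoh.Lpull p).obj K)
  obtain ⟨r₂⟩ := DQCoh.nonempty_Lpull_restrict j K
  obtain ⟨c₁⟩ := DCat.nonempty_LpullComp W.ι p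
  obtain ⟨c₂⟩ := DCat.nonempty_LpullComp q j
  obtain ⟨_, _⟩ := DCat.PullPerf.exists_commShift_Lpull q
  obtain ⟨o⟩ := Dual6Lib.RelRigid.nonempty_Lpull_structure q
  let eW : (DCoh.restrictD W.ι).obj ((DCoh.Lpull p).obj K) ≅
      (DCoh.inD (W : Scheme.{u}) (Coh.structureModule (W : Scheme.{u})))⟦m⟧ :=
    r₁.symm ≪≫ c₁.app K ≪≫ eqToIso (by congr 2; exact hq.symm) ≪≫ (c₂.app K).symm ≪≫
      (DCoh.Lpull q).mapIso (r₂ ≪≫ eV) ≪≫ ((DCoh.Lpull q).commShiftIso m).app _ ≪≫ (shiftFunctor _ m).mapIso o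
  obtain rfl := chart_degree (fun i hi => InvDeg.isZero hp i hi) W.ι (⟨z, hz⟩ : (W : Scheme.{u})) eW
  exact ⟨V, j, inferInstance, w, hw, ⟨eV⟩⟩

/-- A complex in a single degree is a shifted module. -/
theorem InvDeg.nonempty_iso {K : DCoh.D X} {n : ℤ} (hK : InvDeg K n) :
    Nonempty (K ≅ (DCoh.inD X (DCoh.HD K (-n)))⟦n⟧) := by
  let t := DerivedCategory.TStructure.t (C := X.Modules)
  haveI : K.IsGE (-n) := (DerivedCategory.isGE_iff _ _).2 fun i hi => hK.isZero i (by omega)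
  haveI : K.IsLE (-n) := (DerivedCategory.isLE_iff _ _).2 fun i hi => hK.isZero i (by omega)
  haveI : (K⟦-n⟧).IsGE 0 := t.isGE_shift K (-n) (-n) 0 (by omega)
  haveI : (K⟦-n⟧).IsLE 0 := t.isLE_shift K (-n) (-n) 0 (by omega)
  obtain ⟨F, ⟨eF⟩⟩ := exists_iso_singleFunctor_obj_of_isGE_of_isLE (K⟦-n⟧) 0
  let eM : DCoh.HD K (-n) ≅ F :=
    (((homologyFunctor X.Modules 0).shiftIso (-n) 0 (-n) (by omega)).app K).symm ≪≫
      (homologyFunctor X.Modules 0).mapIso eF ≪≫ (singleFunctorCompHomologyFunctorIso X.Modules 0).app F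
  exact ⟨((shiftFunctorCompIsoId (DCoh.D X) (-n) n (by omega)).app K).symm ≪≫
    (shiftFunctor _ n).mapIso (eF ≪≫ (singleFunctor X.Modules 0).mapIso eM.symm)⟩

/-- Cohomology of inverse images of complexes in one degree. -/
theorem InvDeg.nonempty_pull {K : DCoh.D X} {n : ℤ} (hK : InvDeg K n) (p : Z ⟶ X) [DCoh.HasLpull p] :
    Nonempty ((Scheme.Modules.pullback p).obj (DCoh.HD K (-n)) ≅ DCoh.HD ((DCoh.Lpull p).obj K) (-n)) := by
  obtain ⟨eK⟩ := hK.nonempty_iso
  obtain ⟨_, _⟩ := DCat.PullPerf.exists_commShift_Lpull p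
  obtain ⟨l⟩ := BCFlat16.nonempty_Lpull_inD p hK.isInvertible
  let M := (Scheme.Modules.pullback p).obj (DCoh.HD K (-n))
  exact ⟨((singleFunctorCompHomologyFunctorIso Z.Modules 0).app M).symm ≪≫
    eqToIso (congrArg (fun k : ℤ => DCoh.HD (DCoh.inD Z M) k) (add_neg_cancel n).symm) ≪≫
    (((homologyFunctor Z.Modules 0).shiftIso n (-n) (n + -n) rfl).app _).symm ≪≫
    (homologyFunctor Z.Modules (-n)).mapIso ((shiftFunctor _ n).mapIso l.symm ≪≫
      (((DCoh.Lpull p).commShiftIso n).app _).symm ≪≫ (DCoh.Lpull p).mapIso eK.symm)⟩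

end Groth.Agent.DualGorBC
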