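import Groth.Agent.DualGorBC.Affine
import Groth.Agent.Dual6Lib.BCShriekGlobal
import Groth.Agent.DCat.KernelAdj17

/-!
# Base change of the dualizing complex of a proper flat Gorenstein morphism along any map
-/

set_option autoImplicit false
set_option backward.isDefEq.respectTransparency false
set_option backward.defeqAttrib.useBackward true
set_option linter.style.haveILetI false
set_option linter.unusedSectionVars false
set_option synthInstance.maxHeartbeats 100000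

universe u

open CategoryTheory CategoryTheory.Limits CategoryTheory.Pretriangulated AlgebraicGeometry
open Groth.Agent.DCat Groth.Agent.DCat.PerfLocal Groth.Agent.Dual22Lib Groth.Agent.Dual22Lib.AdjGeom
  Groth.Agent.Dual22Lib.WeakExact Groth.Agent.Dual6Lib Groth.Agent.Dual6Lib.BCShriekGlobal

attribute [local instance] HasDerivedCategory.standard
attribute [-instance] Int.instConditionallyCompleteLinearOrder

namespace Groth.Agent.DualGorBC

variable [∀ (U V : Scheme.{u}) (j : U ⟶ V) [IsOpenImmersion j], PreservesFiniteLimits (Scheme.Modules.restrictFunctor j)]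

theorem exists_adjQ' {X Y : Scheme.{u}} (g : X ⟶ Y) [QuasiCompact g] [QuasiSeparated g] [DCoh.HasRpush g]
    [DCoh.HasLpull g] (hg : DCoh.RpushPreservesQCoh g) (hLg : Dual3.LpullPreservesQCoh g) :
    Nonempty (Dual3.LpullQ g hLg ⊣ DCoh.RpushQ g hg) := by
  obtain ⟨a⟩ := nonempty_pullPushAdj g
  exact ⟨a.restrictFullyFaithful (ObjectProperty.fullyFaithfulι _) (ObjectProperty.fullyFaithfulι _)
    (Iso.refl _) (Iso.refl _)⟩

section Main

variable {X Y X' Y' : Scheme.{u}} {f : X ⟶ Y} {g : Y' ⟶ Y} {f' : X' ⟶ Y'} {g' : X' ⟶ X}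
  [DCoh.HasRpush f] [DCoh.HasRpush f'] [DCoh.HasRpush g] [DCoh.HasRpush g']
  [DCoh.HasLpull g] [DCoh.HasLpull g']
  {hf : DCoh.RpushPreservesQCoh f} {hf' : DCoh.RpushPreservesQCoh f'}
  {hg : DCoh.RpushPreservesQCoh g} {hg' : DCoh.RpushPreservesQCoh g'}
  {hLg : Dual3.LpullPreservesQCoh g} {hLg' : Dual3.LpullPreservesQCoh g'}
  {a : DCoh.DQCoh Y ⥤ DCoh.DQCoh X} {a' : DCoh.DQCoh Y' ⥤ DCoh.DQCoh X'}

/-- **Base change of the dualizing complex of a Gorenstein morphism.** -/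
theorem isIso_bs_gor (hsq : IsPullback g' f' f g) [IsNoetherian Y] [IsNoetherian Y'] [IsProper f] [Flat f]
    (hG : Dual3.IsGorensteinMor f)
    [CompactSpace X] [QuasiSeparatedSpace X] [CompactSpace X'] [QuasiSeparatedSpace X']
    [QuasiCompact f'] [QuasiSeparated f']
    (adj : DCoh.RpushQ f hf ⊣ a) (adj' : DCoh.RpushQ f' hf' ⊣ a') (K : DCoh.DQCoh Y)
    (hsupp : SuppFor f a K) (hsupp' : SuppFor f' a' ((Dual3.LpullQ g hLg).obj K))
    (τ : DCoh.RpushQ f hf ⋙ Dual3.LpullQ g hLg ⟶ Dual3.LpullQ g' hLg' ⋙ DCoh.RpushQ f' hf')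
    (hτ : ∀ E, IsIso (τ.app E))
    (eK : K.obj ≅ DCoh.inD Y (Coh.structureModule Y)) :
    IsIso (BCFormal.bs adj adj' τ hτ K) := by
  suffices IsIso ((ObjectProperty.ι _).map (BCFormal.bs adj adj' τ hτ K)) from
    (ObjectProperty.fullyFaithfulι _).isIso_of_isIso_map _
  refine ProjPerf.isIso_of_locally _ fun x => ?_
  obtain ⟨V, hV, hxV, -⟩ := exists_isAffineOpen_mem_and_subset (show g (f' x) ∈ (⊤ : Y.Opens) from trivial)
  obtain ⟨V', hV', hxV', hle⟩ := exists_isAffineOpen_mem_and_subset (show f' x ∈ g ⁻¹ᵁ V from hxV)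
  refine ⟨f' ⁻¹ᵁ V', hxV', ?_⟩
  have hle' : f' ⁻¹ᵁ V' ≤ g' ⁻¹ᵁ (f ⁻¹ᵁ V) := fun z hz => by
    show f (g' z) ∈ V
    rw [← Scheme.Hom.comp_apply, hsq.w, Scheme.Hom.comp_apply]
    exact hle hz
  let U := f ⁻¹ᵁ V
  let U' := f' ⁻¹ᵁ V'
  let g₂ : (V' : Scheme.{u}) ⟶ (V : Scheme.{u}) := g.resLE V V' hle
  let g₂' : (U' : Scheme.{u}) ⟶ (U : Scheme.{u}) := g'.resLE U U' hle'
  haveI : IsAffine V := hV
  haveI : IsAffine V' := hV'
  have hsqj : IsPullback U.ι (f ∣_ V) f V.ι := (isPullback_morphismRestrict f V).flip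
  have hsqk : IsPullback U'.ι (f' ∣_ V') f' V'.ι := (isPullback_morphismRestrict f' V').flip
  have hV₂ : g₂ ≫ V.ι = V'.ι ≫ g := Scheme.Hom.resLE_comp_ι g hle
  have hU₂ : g₂' ≫ U.ι = U'.ι ≫ g' := Scheme.Hom.resLE_comp_ι g' hle'
  have hsq₂ : IsPullback g₂' (f' ∣_ V') (f ∣_ V) g₂ := by
    refine IsPullback.of_right ?_ ?_ hsqj
    · rw [hU₂, hV₂]
      exact hsqk.paste_horiz hsq
    · rw [← cancel_mono V.ι, Category.assoc, Category.assoc, morphismRestrict_ι, reassoc_of% hU₂, hsq.w, hV₂,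
        morphismRestrict_ι_assoc]
  haveI : QuasiCompact V.ι := quasiCompact_of_compactSpace _
  haveI : QuasiCompact V'.ι := quasiCompact_of_compactSpace _
  haveI : QuasiCompact U.ι := MorphismProperty.of_isPullback (P := @QuasiCompact) hsqj.flip inferInstance
  haveI : QuasiCompact U'.ι := MorphismProperty.of_isPullback (P := @QuasiCompact) hsqk.flip inferInstance
  haveI : QuasiCompact (f ∣_ V) := MorphismProperty.of_isPullback (P := @QuasiCompact) hsqj inferInstance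
  haveI : QuasiSeparated (f ∣_ V) := MorphismProperty.of_isPullback (P := @QuasiSeparated) hsqj inferInstance
  haveI : QuasiCompact (f' ∣_ V') := MorphismProperty.of_isPullback (P := @QuasiCompact) hsqk inferInstance
  haveI : QuasiSeparated (f' ∣_ V') := MorphismProperty.of_isPullback (P := @QuasiSeparated) hsqk inferInstance
  haveI : CompactSpace (U : Scheme.{u}) := QuasiCompact.compactSpace_of_compactSpace (f ∣_ V)
  haveI : QuasiSeparatedSpace (U : Scheme.{u}) := quasiSeparatedSpace_of_quasiSeparated (f ∣_ V)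
  haveI : CompactSpace (U' : Scheme.{u}) := QuasiCompact.compactSpace_of_compactSpace (f' ∣_ V')
  haveI : QuasiSeparatedSpace (U' : Scheme.{u}) := quasiSeparatedSpace_of_quasiSeparated (f' ∣_ V')
  haveI : QuasiCompact g₂' := quasiCompact_of_compactSpace _
  haveI : QuasiSeparated g₂' := QuasiSeparated.of_quasiSeparatedSpace _
  haveI : QuasiCompact g₂ := quasiCompact_of_compactSpace _
  haveI : QuasiSeparated g₂ := QuasiSeparated.of_quasiSeparatedSpace _
  haveI := hasRpush g₂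
  haveI : IsNoetherian (V : Scheme.{u}) := { }
  haveI : IsNoetherian (V' : Scheme.{u}) := { }
  haveI : IsProper (f ∣_ V) := MorphismProperty.of_isPullback hsqj inferInstance
  haveI : Flat (f ∣_ V) := MorphismProperty.of_isPullback hsqj inferInstance
  have hGV : Dual3.IsGorensteinMor (f ∣_ V) :=
    fun v => (Groth.Agent.S3626.result X Y U V f V.ι (f ∣_ V) U.ι hsqj v).2 (hG _)
  haveI := hasRpush (f ∣_ V)
  haveI := hasRpush (f' ∣_ V')
  haveI := hasRpush V.ι
  haveI := hasRpush U.ι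
  haveI := hasRpush V'.ι
  haveI := hasRpush U'.ι
  haveI := hasRpush g₂'
  haveI := hasLpull V.ι
  haveI := hasLpull U.ι
  haveI := hasLpull V'.ι
  haveI := hasLpull U'.ι
  haveI := hasLpull g₂
  haveI := hasLpull g₂'
  have hfV : DCoh.RpushPreservesQCoh (f ∣_ V) := fun M hM => DQCoh.isQCohD_Rpush _ M hM
  have hfV' : DCoh.RpushPreservesQCoh (f' ∣_ V') := fun M hM => DQCoh.isQCohD_Rpush _ M hM
  have hj : DCoh.RpushPreservesQCoh V.ι := fun M hM => DQCoh.isQCohD_Rpush _ M hM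
  have hj' : DCoh.RpushPreservesQCoh U.ι := fun M hM => DQCoh.isQCohD_Rpush _ M hM
  have hk : DCoh.RpushPreservesQCoh V'.ι := fun M hM => DQCoh.isQCohD_Rpush _ M hM
  have hk' : DCoh.RpushPreservesQCoh U'.ι := fun M hM => DQCoh.isQCohD_Rpush _ M hM
  have hg₂' : DCoh.RpushPreservesQCoh g₂' := fun M hM => DQCoh.isQCohD_Rpush _ M hM
  haveI : (DCoh.RpushQ (f ∣_ V) hfV).IsLeftAdjoint := isLeftAdjoint_RpushQ (f ∣_ V) hfV
  haveI : (DCoh.RpushQ (f' ∣_ V') hfV').IsLeftAdjoint := isLeftAdjoint_RpushQ (f' ∣_ V') hfV'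
  let adjV := Adjunction.ofIsLeftAdjoint (DCoh.RpushQ (f ∣_ V) hfV)
  let adjV' := Adjunction.ofIsLeftAdjoint (DCoh.RpushQ (f' ∣_ V') hfV')
  obtain ⟨aj⟩ := exists_adjQ V.ι hj (XiIso.lpullPreservesQCoh _)
  obtain ⟨aj'⟩ := exists_adjQ U.ι hj' (XiIso.lpullPreservesQCoh _)
  obtain ⟨ak⟩ := exists_adjQ V'.ι hk (XiIso.lpullPreservesQCoh _)
  obtain ⟨ak'⟩ := exists_adjQ U'.ι hk' (XiIso.lpullPreservesQCoh _)
  have hg₂ : DCoh.RpushPreservesQCoh g₂ := fun M hM => DQCoh.isQCohD_Rpush _ M hM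
  obtain ⟨a₂⟩ := exists_adjQ' g₂' hg₂' (XiIso.lpullPreservesQCoh _)
  obtain ⟨a₃⟩ := exists_adjQ' g₂ hg₂ (XiIso.lpullPreservesQCoh _)
  obtain ⟨lV⟩ := RelRigid.nonempty_Lpull_structure V.ι
  obtain ⟨ej, hej⟩ := BCShriekSquare.exists_bc (hf := hf) (hf' := hfV) hsqj aj aj'
  obtain ⟨ek, hek⟩ := BCShriekSquare.exists_bc (hf := hf') (hf' := hfV') hsqk ak ak'
  haveI := isIso_counitQ U.ι aj'
  -- the two factorisations
  obtain ⟨α⟩ := nonempty_LpullQ_comp V'.ι g g₂ V.ι hV₂.symm (XiIso.lpullPreservesQCoh _) hLg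
    (XiIso.lpullPreservesQCoh _) (XiIso.lpullPreservesQCoh _)
  obtain ⟨α'⟩ := nonempty_LpullQ_comp U'.ι g' g₂' U.ι hU₂.symm (XiIso.lpullPreservesQCoh _) hLg'
    (XiIso.lpullPreservesQCoh _) (XiIso.lpullPreservesQCoh _)
  let Lk := Dual3.LpullQ V'.ι (XiIso.lpullPreservesQCoh _)
  let Lk' := Dual3.LpullQ U'.ι (XiIso.lpullPreservesQCoh _)
  let τk := BCAlg.bc ak ak' ek
  let σ : DCoh.RpushQ f hf ⋙ Dual3.LpullQ g hLg ⋙ Lk ⟶
      (Dual3.LpullQ g' hLg' ⋙ Lk') ⋙ DCoh.RpushQ (f' ∣_ V') hfV' :=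
    { app := fun E => Lk.map (τ.app E) ≫ τk.app ((Dual3.LpullQ g' hLg').obj E)
      naturality := fun E₁ E₂ u => by
        have h1 := τ.naturality u
        have h2 := τk.naturality ((Dual3.LpullQ g' hLg').map u)
        dsimp only [Functor.comp_map, Functor.comp_obj] at h1 h2 ⊢
        rw [← Lk.map_comp_assoc, h1, Lk.map_comp_assoc, h2, Category.assoc] }
  haveI := hτ
  haveI := hek
  have hσ : ∀ E, IsIso (σ.app E) := fun E => by dsimp only [σ]; infer_instance
  haveI := hσ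
  let σ₂ := Functor.whiskerLeft (DCoh.RpushQ f hf) α.inv ≫ σ ≫
    Functor.whiskerRight α'.hom (DCoh.RpushQ (f' ∣_ V') hfV')
  have hσ₂ : ∀ E, IsIso (σ₂.app E) := fun E => by
    simp only [σ₂, NatTrans.comp_app, Functor.whiskerLeft_app, Functor.whiskerRight_app]
    infer_instance
  obtain ⟨τ₂, hτ₂, hrel⟩ := BCFormal.exists_factor aj' (BCAlg.bc aj aj' ej) hej σ₂ hσ₂
  have i2 : IsIso (BCFormal.bs adj adjV' σ₂ hσ₂ K) := by
    rw [BCFormal.bs_comp adj adjV _ hej adjV' τ₂ hτ₂ σ₂ hσ₂ hrel K]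
    haveI := isIso_bs_open f adj V hV adjV aj aj' ej hej K hsupp
    haveI := DualGorBC.isIso_bs (f ∣_ V) g₂ (f' ∣_ V') g₂' hsq₂ hGV adjV adjV' a₃ a₂ τ₂ hτ₂
      ((Dual3.LpullQ V.ι (XiIso.lpullPreservesQCoh _)).obj K) ((DCoh.Lpull V.ι).mapIso eK ≪≫ lV)
    infer_instance
  have i1 : IsIso (BCFormal.bs adj adjV' σ hσ K) :=
    (BCFormal.isIso_bs_iff_of_iso adj adjV' σ hσ α α' σ₂ hσ₂ (fun _ => rfl) K).1 i2
  rw [BCFormal.bs_comp adj adj' τ hτ adjV' τk hek σ hσ (fun _ => rfl) K] at i1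
  haveI := i1
  haveI := isIso_bs_open f' adj' V' hV' adjV' ak ak' ek hek ((Dual3.LpullQ g hLg).obj K) hsupp'
  haveI : IsIso (Lk'.map (BCFormal.bs adj adj' τ hτ K)) := IsIso.of_isIso_comp_right _
    (BCFormal.bs adj' adjV' τk hek ((Dual3.LpullQ g hLg).obj K))
  obtain ⟨r⟩ := BCSquare.nonempty_Lpull_rd U'.ι
  exact (NatIso.isIso_map_iff r _).1 (Functor.map_isIso (ObjectProperty.ι _) (Lk'.map (BCFormal.bs adj adj' τ hτ K)))

end Main

/-- **Base change of the relative dualizing complex** of a proper flat Gorenstein morphism. -/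
theorem nonempty_dualizing_baseChange {X Y X' Y' : Scheme.{u}} [IsNoetherian Y] [IsNoetherian Y']
    (f : X ⟶ Y) (g : Y' ⟶ Y) (f' : X' ⟶ Y') (g' : X' ⟶ X) (hsq : IsPullback g' f' f g)
    [IsProper f] [Flat f] (hG : Dual3.IsGorensteinMor f) [DCoh.HasRpush f] [DCoh.HasRpush f']
    [DCoh.HasLpull g'] (hf : DCoh.RpushPreservesQCoh f) (hf' : DCoh.RpushPreservesQCoh f')
    (a : DCoh.DQCoh Y ⥤ DCoh.DQCoh X) (a' : DCoh.DQCoh Y' ⥤ DCoh.DQCoh X')
    (adj : DCoh.RpushQ f hf ⊣ a) (adj' : DCoh.RpushQ f' hf' ⊣ a')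
    (O : DCoh.DQCoh Y) (eO : O.obj ≅ DCoh.inD Y (Coh.structureModule Y))
    (O' : DCoh.DQCoh Y') (eO' : O'.obj ≅ DCoh.inD Y' (Coh.structureModule Y')) :
    Nonempty ((DCoh.Lpull g').obj (a.obj O).obj ≅ (a'.obj O').obj) := by
  haveI : QuasiCompact g := quasiCompact_of_compactSpace g
  haveI : QuasiSeparated g := QuasiSeparated.of_quasiSeparatedSpace g
  haveI : QuasiCompact g' := MorphismProperty.of_isPullback (P := @QuasiCompact) hsq.flip inferInstance
  haveI : QuasiSeparated g' := MorphismProperty.of_isPullback (P := @QuasiSeparated) hsq.flip inferInstance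
  haveI : IsProper f' := MorphismProperty.of_isPullback hsq inferInstance
  haveI : Flat f' := MorphismProperty.of_isPullback hsq inferInstance
  haveI : CompactSpace X := QuasiCompact.compactSpace_of_compactSpace f
  haveI : QuasiSeparatedSpace X := quasiSeparatedSpace_of_quasiSeparated f
  haveI : CompactSpace X' := QuasiCompact.compactSpace_of_compactSpace f'
  haveI : QuasiSeparatedSpace X' := quasiSeparatedSpace_of_quasiSeparated f'
  haveI : LocallyOfFinitePresentation f := LocallyOfFinitePresentation.iff_locallyOfFiniteType.2 inferInstance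
  haveI : LocallyOfFinitePresentation f' := LocallyOfFinitePresentation.iff_locallyOfFiniteType.2 inferInstance
  haveI := hasRpush g
  haveI := hasRpush g'
  haveI := hasLpull g
  haveI := hasLpull f
  haveI := hasLpull f'
  have hg : DCoh.RpushPreservesQCoh g := fun M hM => DQCoh.isQCohD_Rpush g M hM
  have hg' : DCoh.RpushPreservesQCoh g' := fun M hM => DQCoh.isQCohD_Rpush g' M hM
  obtain ⟨adjg, adjg', e, he⟩ := XiIso.exists_bcQ (hf := hf) (hf' := hf') (hg := hg) (hg' := hg')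
    (XiIso.lpullPreservesQCoh g) (XiIso.lpullPreservesQCoh g') hsq.w (BCMain.good_of_flat f g hsq (Or.inl inferInstance))
  haveI := isIso_bs_gor hsq hG adj adj' O
    (Or.inl fun V hV C hC => SuppAdjQC.killed_rightAdjoint f (PPFlat.pp_flat f) hf a adj V hV C hC)
    (Or.inl fun V hV C hC => SuppAdjQC.killed_rightAdjoint f' (PPFlat.pp_flat f') hf' a' adj' V hV C hC)
    (BCAlg.bc adjg adjg' e) he eO
  obtain ⟨l⟩ := RelRigid.nonempty_Lpull_structure g
  let i : (Dual3.LpullQ g (XiIso.lpullPreservesQCoh g)).obj O ≅ O' :=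
    (ObjectProperty.fullyFaithfulι _).preimageIso ((DCoh.Lpull g).mapIso eO ≪≫ l ≪≫ eO'.symm)
  exact ⟨(ObjectProperty.ι _).mapIso (asIso (BCFormal.bs adj adj' (BCAlg.bc adjg adjg' e) he O) ≪≫ a'.mapIso i)⟩

end Groth.Agent.DualGorBC
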