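import Groth.Agent.DualGorBC.Global
import Groth.Agent.DCat.KernelAdjGor17

/-!
# The left adjoint of a Fourier–Mukai functor on `D_QCoh` through the relative dualizing complex
-/

set_option autoImplicit false
set_option backward.isDefEq.respectTransparency false
set_option backward.defeqAttrib.useBackward true
set_option linter.style.haveILetI false
set_option synthInstance.maxHeartbeats 100000

universe u

open CategoryTheory CategoryTheory.Limits AlgebraicGeometry
open Groth.Agent.DCat

attribute [local instance] HasDerivedCategory.standard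

namespace Groth.Agent.DualGorBC

open Groth.Agent.Dual22Lib

/-- The left adjoint on objects with quasi-coherent cohomology. -/
theorem nonempty_adj_left_qc {S X Y : Scheme.{u}} [IsNoetherian S] (a : X ⟶ S) (b : Y ⟶ S)
    [LocallyOfFiniteType a] [QuasiCompact a] [IsProper b] [Flat b] (hG : Dual3.IsGorensteinMor b)
    (K : CochainComplex (pullback a b).Modules ℤ) (hK : DCoh.IsPerfect (DCoh.toD _ K))
    [DCoh.HasLpull (pullback.fst a b)] [DCoh.HasLTensorCx K] [DCoh.HasRpush (pullback.snd a b)]
    [DCoh.HasRSheafHom K]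
    [DCoh.HasRpush b] (hRb : DCoh.RpushPreservesQCoh b) [DCoh.HasShriek b hRb]
    (OS : DCoh.DQCoh S) (hOS : OS.obj ≅ DCoh.inD S (Coh.structureModule S))
    [DCoh.HasLpull (pullback.snd a b)]
    (W : CochainComplex (pullback a b).Modules ℤ) [DCoh.HasLTensorCx W]
    (hW : Nonempty (DCoh.toD _ W ≅ (DCoh.Lpull (pullback.snd a b)).obj (DCoh.dualizingCx b hRb OS)))
    [DCoh.HasLpull (pullbackSymmetry b a).hom]
    (K' : CochainComplex (pullback b a).Modules ℤ)
    (hK' : Nonempty (DCoh.toD _ K' ≅ (DCoh.Lpull (pullbackSymmetry b a).hom).obj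
      ((DCoh.LTensorCx W).obj ((DCoh.RSheafHom K).obj (DCoh.inD _ (Coh.structureModule (pullback a b)))))))
    [DCoh.HasLpull (pullback.fst b a)] [DCoh.HasLTensorCx K'] [DCoh.HasRpush (pullback.snd b a)]
    (h : ∀ M : DCoh.D X, DCoh.IsQCohD M → DCoh.IsQCohD ((FMK.phi a b K).obj M))
    (h' : ∀ N : DCoh.D Y, DCoh.IsQCohD N → DCoh.IsQCohD ((FMK.phi b a K').obj N)) :
    Nonempty (FMK.phiOn b a K' DCoh.IsQCohD DCoh.IsQCohD h' ⊣ FMK.phiOn a b K DCoh.IsQCohD DCoh.IsQCohD h) := by
  haveI : ∀ (U V : Scheme.{u}) (j : U ⟶ V) [IsOpenImmersion j], PreservesFiniteLimits (Scheme.Modules.restrictFunctor j) :=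
    fun U V j _ => PullPerf.preservesFiniteLimits_restrict j
  let q' := pullback.snd b a
  let p := pullback.fst a b
  let σ := (pullbackSymmetry b a).hom
  haveI : IsLocallyNoetherian X := LocallyOfFiniteType.isLocallyNoetherian a
  haveI : IsLocallyNoetherian Y := LocallyOfFiniteType.isLocallyNoetherian b
  haveI : CompactSpace X := QuasiCompact.compactSpace_of_compactSpace a
  haveI : CompactSpace Y := QuasiCompact.compactSpace_of_compactSpace b
  haveI : IsNoetherian X := { }
  haveI : IsNoetherian Y := { }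
  haveI : LocallyOfFinitePresentation b := LocallyOfFinitePresentation.iff_locallyOfFiniteType.2 inferInstance
  haveI : IsProper p := MorphismProperty.of_isPullback (IsPullback.of_hasPullback a b).flip inferInstance
  haveI : IsProper q' := MorphismProperty.of_isPullback (IsPullback.of_hasPullback b a) inferInstance
  haveI : CompactSpace ↥(pullback a b) := QuasiCompact.compactSpace_of_compactSpace p
  haveI : QuasiSeparatedSpace ↥(pullback a b) := quasiSeparatedSpace_of_quasiSeparated p
  haveI : CompactSpace ↥(pullback b a) := QuasiCompact.compactSpace_of_compactSpace q'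
  haveI : QuasiSeparatedSpace ↥(pullback b a) := quasiSeparatedSpace_of_quasiSeparated q'
  let OX : DCoh.DQCoh X := ⟨DCoh.inD X (Coh.structureModule X), RelEquivBC.isQCohD_inD_structure X⟩
  obtain ⟨hWp, -⟩ := KernelAdjGor17.isPerfect_kernel a b b hG (pullback.snd a b) hRb OS hOS K hK W hW K' hK'
  obtain ⟨eW⟩ := hW
  -- the first projection
  haveI := hasRpush p
  have hp : DCoh.RpushPreservesQCoh p := fun M hM => DQCoh.isQCohD_Rpush p M hM
  haveI : DCoh.HasShriek p hp := AdjGeom.isLeftAdjoint_RpushQ p hp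
  obtain ⟨bp⟩ := nonempty_dualizing_baseChange b a p (pullback.snd a b)
    (IsPullback.of_hasPullback a b).flip hG hRb hp _ _ (DCoh.shriekAdj b hRb) (DCoh.shriekAdj p hp) OS hOS OX (Iso.refl _)
  haveI : Flat p := MorphismProperty.of_isPullback (IsPullback.of_hasPullback a b).flip inferInstance
  have hWe : KernelDual17.EndTrivial (DCoh.toD _ W) := KernelDual17.endTrivial_of_iso (eW ≪≫ bp).symm
    (KernelGor17.endTrivial p hp _ (DCoh.shriekAdj p hp) OX (Iso.refl _))
  -- the second projection of the symmetric product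
  have hq' : DCoh.RpushPreservesQCoh q' := fun M hM => DQCoh.isQCohD_Rpush q' M hM
  haveI : DCoh.HasShriek q' hq' := AdjGeom.isLeftAdjoint_RpushQ q' hq'
  obtain ⟨bq⟩ := nonempty_dualizing_baseChange b a q' (pullback.fst b a)
    (IsPullback.of_hasPullback b a) hG hRb hq' _ _ (DCoh.shriekAdj b hRb) (DCoh.shriekAdj q' hq') OS hOS OX (Iso.refl _)
  haveI := hasLpull (σ ≫ pullback.snd a b)
  obtain ⟨c₁⟩ := FMAdj.nonempty_Lpull_congr (f := pullback.fst b a) (g := σ ≫ pullback.snd a b)
    (pullbackSymmetry_hom_comp_snd b a).symm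
  obtain ⟨c₂⟩ := nonempty_LpullComp σ (pullback.snd a b)
  let bc : DCoh.dualizingCx q' hq' OX ≅ (DCoh.Lpull σ).obj (DCoh.toD _ W) :=
    bq.symm ≪≫ (c₁ ≪≫ c₂.symm).app _ ≪≫ (DCoh.Lpull σ).mapIso eW.symm
  exact KernelAdj17.nonempty_adj_left_qc a b K hK W hWp hWe hq' OX (Iso.refl _) bc K' hK' h h'

end Groth.Agent.DualGorBC
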