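import Groth.Agent.DualGorBC.Tools

/-!
# Generators after applying the right adjoint of a Gorenstein morphism
-/

set_option autoImplicit false
set_option backward.isDefEq.respectTransparency false
set_option backward.defeqAttrib.useBackward true
set_option linter.style.haveILetI false
set_option linter.unusedSectionVars false
set_option synthInstance.maxHeartbeats 200000
set_option maxHeartbeats 1000000

universe u

open CategoryTheory CategoryTheory.Limits CategoryTheory.Pretriangulated DerivedCategory AlgebraicGeometry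
open Groth.Agent.DCat Groth.Agent.Dual6Lib.HomFlat

attribute [local instance] HasDerivedCategory.standard
attribute [-instance] Int.instConditionallyCompleteLinearOrder

namespace Groth.Agent.DualGorBC

variable [∀ (U V : Scheme.{u}) (j : U ⟶ V) [IsOpenImmersion j], PreservesFiniteLimits (Scheme.Modules.restrictFunctor j)]

variable {X T : Scheme.{u}} [IsNoetherian T] (f : X ⟶ T) [IsProper f] [Flat f] [DCoh.HasRpush f]
  (hf : DCoh.RpushPreservesQCoh f) (a : DCoh.DQCoh T ⥤ DCoh.DQCoh X) (adj : DCoh.RpushQ f hf ⊣ a)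
  (O : DCoh.DQCoh T) (hO : Nonempty (O.obj ≅ DCoh.inD T (Coh.structureModule T)))

include adj hO

/-- A family generating in cohomology gives generators of the cohomology of the right adjoint. -/
theorem span_range (hI : Inv (a.obj O).obj) (y : X) {ι : Type u} (K : DCoh.DQCoh T) (q : ι → (O ⟶ K))
    (hgen : ∀ k : ℤ, Submodule.span (T.presheaf.stalk (f y))
      (⋃ i, Set.range ((DerSch.stalkFunctor T (f y)).map ((homologyFunctor _ k).map (q i).hom)).hom) = ⊤) (i : ℤ) :
    Submodule.span (X.presheaf.stalk y)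
      (⋃ b, Set.range ((DerSch.stalkFunctor X y).map ((homologyFunctor _ i).map (a.map (q b)).hom)).hom) = ⊤ := by
  obtain ⟨V, j, _, w, n, rfl, ⟨eV⟩⟩ := hI y
  haveI : CompactSpace X := QuasiCompact.compactSpace_of_compactSpace f
  haveI : QuasiSeparatedSpace X := quasiSeparatedSpace_of_quasiSeparated f
  haveI : LocallyOfFinitePresentation f := LocallyOfFinitePresentation.iff_locallyOfFiniteType.2 inferInstance
  let h : V ⟶ T := j ≫ f
  haveI : Flat h := inferInstance
  haveI := DCat.hasLpull f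
  haveI := DCat.hasLpull j
  haveI := DCat.hasLpull h
  obtain ⟨N, hNk, ⟨eN⟩⟩ := DCat.PullPerf.exists_kflat_rep (a.obj O).obj
  haveI := LTensorSheaf.hasLTensorCx N
  obtain ⟨eT⟩ := Groth.Agent.S3658.result X T f hf a adj O hO N ⟨eN⟩
  let NU := (Dual22Lib.PullTensorNat.pullC j).obj N
  have hNUk : IsKFlatFor (shT V) NU := PullTot.isKFlatFor_pullback j hNk
  haveI := LTensorSheaf.hasLTensorCx NU
  obtain ⟨r⟩ := DQCoh.nonempty_Lpull_restrict j (a.obj O).obj
  let eNU : DerivedCategory.Q.obj NU ≅ (DCoh.restrictD j).obj (a.obj O).obj :=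
    (PullPerf.lpullIso j hNk).symm ≪≫ (DCoh.Lpull j).mapIso eN ≪≫ r
  let E : CochainComplex V.Modules ℤ := (HomologicalComplex.single V.Modules (ComplexShape.up ℤ) 0).obj (Coh.structureModule V)
  haveI := LTensorSheaf.hasLTensorCx E
  haveI := LTensorSheaf.hasLTensorCx (E⟦n⟧)
  let eE : DerivedCategory.Q.obj NU ≅ DerivedCategory.Q.obj (E⟦n⟧) :=
    eNU ≪≫ eV ≪≫ (shiftFunctor _ n).mapIso ((DerivedCategory.singleFunctorIsoCompQ V.Modules 0).app _) ≪≫
      ((DerivedCategory.Q.commShiftIso n).app E).symm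
  obtain ⟨n₁⟩ := TensorCongr.nonempty_congr eE
  obtain ⟨n₂⟩ := RHomLeft.nonempty_LTensor_shift E (RHomLeft.isKFlatFor_structure V) n
  obtain ⟨n₃⟩ := RHomLeft.nonempty_LTensor_structure (X := V)
  obtain ⟨τ⟩ := Dual22Lib.PullTensorNat.nonempty_natIso j hNk
  obtain ⟨cc⟩ := DCat.nonempty_LpullComp j f
  obtain ⟨αj⟩ := Dual6Lib.BCShriekAffine.nonempty_Lpull_Gd j
  obtain ⟨αh⟩ := Dual6Lib.BCShriekAffine.nonempty_Lpull_Gd h
  let ιT := ObjectProperty.ι (DCoh.IsQCohD (X := T))
  let ιY := ObjectProperty.ι (DCoh.IsQCohD (X := X))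
  let sh : DCoh.LTensorCx NU ≅ shiftFunctor (DCoh.D V) n :=
    n₁ ≪≫ n₂ ≪≫ Functor.isoWhiskerRight n₃ _ ≪≫ Functor.leftUnitor _
  let e₁ : a ⋙ ιY ⋙ Gd j ≅ ιT ⋙ Gd h ⋙ shiftFunctor (DCoh.D V) n :=
    Functor.isoWhiskerLeft a (Functor.isoWhiskerLeft ιY αj.symm) ≪≫ (Functor.associator _ _ _).symm ≪≫
      Functor.isoWhiskerRight eT _ ≪≫ Functor.associator _ _ _ ≪≫
      Functor.isoWhiskerLeft ιT (Functor.associator _ _ _ ≪≫ Functor.isoWhiskerLeft (DCoh.Lpull f) τ ≪≫
        (Functor.associator _ _ _).symm ≪≫ Functor.isoWhiskerRight (cc ≪≫ αh) _ ≪≫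
        Functor.isoWhiskerLeft _ sh)
  let F := a ⋙ ιY ⋙ homologyFunctor X.Modules i
  let G := ιT ⋙ homologyFunctor T.Modules (n + i)
  let e₂ : F ⋙ Scheme.Modules.pullback j ≅ G ⋙ Scheme.Modules.pullback h :=
    Functor.associator _ _ _ ≪≫ Functor.isoWhiskerLeft a (Functor.associator _ _ _ ≪≫
      Functor.isoWhiskerLeft ιY (sigma j i).symm ≪≫ (Functor.associator _ _ _).symm) ≪≫
      (Functor.associator _ _ _).symm ≪≫ Functor.isoWhiskerRight e₁ _ ≪≫ Functor.associator _ _ _ ≪≫
      Functor.isoWhiskerLeft ιT (Functor.associator _ _ _ ≪≫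
        Functor.isoWhiskerLeft (Gd h) ((homologyFunctor V.Modules 0).shiftIso n i (n + i) rfl) ≪≫
        sigma h (n + i)) ≪≫ (Functor.associator _ _ _).symm
  exact DualLib.RelTop.span_range_of_pullback F G j h e₂ w (ConcreteCategory.bijective_of_isIso (j.stalkMap w)) q
    (hgen (n + i))

end Groth.Agent.DualGorBC
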