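import Groth.Agent.DualLib.RelTop.GorChart
import Groth.Agent.DualLib.RelTop.ArbBC
import Groth.Agent.DQCoh.AffinePush
import Groth.Agent.Dual6Lib.RelRigid

/-!
# Tools for base change of dualizing complexes of Gorenstein morphisms
-/

set_option autoImplicit false
set_option backward.isDefEq.respectTransparency false
set_option backward.defeqAttrib.useBackward true
set_option linter.style.haveILetI false
set_option linter.unusedSectionVars false
set_option synthInstance.maxHeartbeats 200000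
set_option maxHeartbeats 1000000

universe u

open CategoryTheory CategoryTheory.Limits CategoryTheory.Pretriangulated DerivedCategory AlgebraicGeometry
open Groth.Agent.DCat Groth.Agent.DQCoh Groth.Agent.SiteDer16

attribute [local instance] HasDerivedCategory.standard
attribute [-instance] Int.instConditionallyCompleteLinearOrder

namespace Groth.Agent.DualGorBC

variable {X Y : Scheme.{u}}

/-- An epimorphism of quasi-coherent modules is onto on sections over affine opens. -/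
theorem lift_sections {M N : X.Modules} [Coh.IsQCoh M] [Coh.IsQCoh N] (φ : M ⟶ N) [Epi φ] {U : X.Opens}
    (hU : IsAffineOpen U) (z : (sec X).P.obj U ⟶ N) : ∃ x : (sec X).P.obj U ⟶ M, x ≫ φ = z := by
  let S : ShortComplex X.Modules := ShortComplex.mk (kernel.ι φ) φ (kernel.condition φ)
  have hS : S.ShortExact :=
    { exact := S.exact_of_f_is_kernel (kernelIsKernel φ)
      mono_f := inferInstanceAs (Mono (kernel.ι φ))
      epi_g := ‹Epi φ› }
  haveI : Coh.IsQCoh S.X₂ := ‹Coh.IsQCoh M›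
  haveI : Coh.IsQCoh S.X₃ := ‹Coh.IsQCoh N›
  haveI : Coh.IsQCoh S.X₁ := Coherent.isQCoh_X₁ hS
  obtain ⟨m, hm⟩ := Coherent.sections_surjective hS hU (Coherent.freeModOnEquiv U N z)
  refine ⟨(Coherent.freeModOnEquiv U M).symm m, (Coherent.freeModOnEquiv U N).injective ?_⟩
  rw [Coherent.freeModOnEquiv_comp, Equiv.apply_symm_apply]
  exact hm

/-- Surjectivity in cohomology is detected by direct image along an affine morphism. -/
theorem epi_hd_of_push (p : X ⟶ Y) [IsAffineHom p] [DCoh.HasRpush p] {E F : DCoh.D X} (hE : DCoh.IsQCohD E)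
    (hF : DCoh.IsQCohD F) (hpE : DCoh.IsQCohD ((DCoh.Rpush p).obj E)) (hpF : DCoh.IsQCohD ((DCoh.Rpush p).obj F))
    (φ : E ⟶ F) (h : ∀ i : ℤ, Epi ((homologyFunctor Y.Modules i).map ((DCoh.Rpush p).map φ))) (i : ℤ) :
    Epi ((homologyFunctor X.Modules i).map φ) := by
  obtain ⟨_, _⟩ := DCat.exists_commShift_Rpush p
  let σ := (homologyFunctor X.Modules 0).shiftIso i 0 i (by omega)
  let σY := (homologyFunctor Y.Modules 0).shiftIso i 0 i (by omega)
  suffices H : Epi ((homologyFunctor X.Modules 0).map (φ⟦i⟧')) from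
    ((MorphismProperty.epimorphisms X.Modules).arrow_mk_iso_iff
      (Arrow.isoMk (σ.app E) (σ.app F) (σ.hom.naturality φ).symm)).1 H
  haveI hY : Epi ((homologyFunctor Y.Modules 0).map ((DCoh.Rpush p).map (φ⟦i⟧'))) := by
    have h₁ : Epi ((homologyFunctor Y.Modules 0).map (((DCoh.Rpush p).map φ)⟦i⟧')) :=
      ((MorphismProperty.epimorphisms Y.Modules).arrow_mk_iso_iff
        (Arrow.isoMk (σY.app _) (σY.app _) (σY.hom.naturality ((DCoh.Rpush p).map φ)).symm)).2 (h i)
    let c := (DCoh.Rpush p).commShiftIso i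
    exact ((MorphismProperty.epimorphisms Y.Modules).arrow_mk_iso_iff
      (Arrow.isoMk ((homologyFunctor Y.Modules 0).mapIso (c.app E)) ((homologyFunctor Y.Modules 0).mapIso (c.app F))
        (by
          dsimp
          rw [← Functor.map_comp, ← Functor.map_comp]
          exact congrArg _ (c.hom.naturality φ).symm))).2 h₁
  let E' := E⟦i⟧
  let F' := F⟦i⟧
  let ψ : E' ⟶ F' := φ⟦i⟧'
  have hE' : DCoh.IsQCohD E' := fun k =>
    Coherent.isQCoh_of_iso (((homologyFunctor X.Modules 0).shiftIso i k (i + k) rfl).app E).symm (h := hE _)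
  have hF' : DCoh.IsQCohD F' := fun k =>
    Coherent.isQCoh_of_iso (((homologyFunctor X.Modules 0).shiftIso i k (i + k) rfl).app F).symm (h := hF _)
  have hq : ∀ K : DCoh.D X, DCoh.IsQCohD ((DCoh.Rpush p).obj K) → DCoh.IsQCohD ((DCoh.Rpush p).obj (K⟦i⟧)) :=
    fun K hK k => by
      haveI : Coh.IsQCoh ((homologyFunctor Y.Modules k).obj (((DCoh.Rpush p).obj K)⟦i⟧)) :=
        Coherent.isQCoh_of_iso (((homologyFunctor Y.Modules 0).shiftIso i k (i + k) rfl).app _).symm (h := hK _)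
      exact Coherent.isQCoh_of_iso
        ((homologyFunctor Y.Modules k).mapIso (((DCoh.Rpush p).commShiftIso i).app K).symm) (h := ‹_›)
  haveI : Coh.IsQCoh ((homologyFunctor X.Modules 0).obj E') := hE' 0
  haveI : Coh.IsQCoh ((homologyFunctor X.Modules 0).obj F') := hF' 0
  haveI : Coh.IsQCoh ((homologyFunctor Y.Modules 0).obj ((DCoh.Rpush p).obj E')) := hq E hpE 0
  haveI : Coh.IsQCoh ((homologyFunctor Y.Modules 0).obj ((DCoh.Rpush p).obj F')) := hq F hpF 0
  let Hφ := (homologyFunctor X.Modules 0).map ψ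
  haveI : Coh.IsQCoh (cokernel Hφ) := Coherent.isQCoh_cokernel Hφ
  suffices IsZero (cokernel Hφ) from Preadditive.epi_of_isZero_cokernel _ this
  refine isZero_of_restrict_cover (ι := Y.affineOpens) _ (fun W => p ⁻¹ᵁ W.1) (fun x => ?_) fun W => ?_
  · obtain ⟨W, hW, hx, -⟩ := exists_isAffineOpen_mem_and_subset (x := p.base x) (U := (⊤ : Y.Opens)) trivial
    exact ⟨⟨W, hW⟩, hx⟩
  refine isZero_restrict_of_sections _ (W.2.preimage p) fun z => ?_
  obtain ⟨x, rfl⟩ := lift_sections (cokernel.π Hφ) (W.2.preimage p) z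
  obtain ⟨y, rfl⟩ := (bijective_θ F' hF' (W.2.preimage p)).2 x
  obtain ⟨b, hb⟩ := exists_homEquiv p W.1 0
  let e0 := (shiftFunctorZero (DCoh.D X) ℤ).app ((sec X).pt.obj (p ⁻¹ᵁ W.1))
  let e0' := (shiftFunctorZero (DCoh.D Y) ℤ).app ((sec Y).pt.obj W.1)
  let w := e0'.inv ≫ (b F').symm (e0.hom ≫ y)
  obtain ⟨v, hv⟩ := lift_sections ((homologyFunctor Y.Modules 0).map ((DCoh.Rpush p).map ψ)) W.2 ((sec Y).θ w)
  obtain ⟨u, rfl⟩ := (bijective_θ _ (hq E hpE) W.2).2 v
  have hu : u ≫ (DCoh.Rpush p).map ψ = w := by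
    refine (bijective_θ _ (hq F hpF) W.2).1 ?_
    show (sec Y).θ _ = (sec Y).θ w
    rw [Sections.θ_comp]
    exact hv
  have hy : e0.hom ≫ y = b E' (e0'.hom ≫ u) ≫ ψ := by
    rw [← hb, Category.assoc, hu, show e0'.hom ≫ w = (b F').symm (e0.hom ≫ y) from Iso.hom_inv_id_assoc e0' _,
      Equiv.apply_symm_apply]
  have hy' : y = (e0.inv ≫ b E' (e0'.hom ≫ u)) ≫ ψ := by
    rw [Category.assoc, ← hy, Iso.inv_hom_id_assoc]
  show (sec X).θ y ≫ cokernel.π Hφ = 0
  rw [hy', Sections.θ_comp, Category.assoc, cokernel.condition, comp_zero]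


section Inv

variable [∀ (U V : Scheme.{u}) (j : U ⟶ V) [IsOpenImmersion j], PreservesFiniteLimits (Scheme.Modules.restrictFunctor j)]

/-- Locally a shift of the structure sheaf. -/
def Inv (K : DCoh.D X) : Prop :=
  ∀ x : X, ∃ (V : Scheme.{u}) (j : V ⟶ X) (_ : IsOpenImmersion j) (w : V) (n : ℤ), j w = x ∧
    Nonempty ((DCoh.restrictD j).obj K ≅ (DCoh.inD V (Coh.structureModule V))⟦n⟧)

/-- Stalks of the cohomology of an invertible object. -/
theorem Inv.stalks {K : DCoh.D X} (hK : Inv K) (x : X) :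
    ∃ n : ℤ, Nonempty ((DCoh.HD K (-n)).presheaf.stalk x ≃ₗ[X.presheaf.stalk x] X.presheaf.stalk x) ∧
      ∀ i : ℤ, i ≠ -n → Subsingleton ((DCoh.HD K i).presheaf.stalk x) := by
  obtain ⟨V, j, _, w, n, rfl, ⟨eV⟩⟩ := hK x
  let O' := Coh.structureModule V
  let e : ∀ i : ℤ, (DCoh.HD K i).restrict j ≅ DCoh.HD (DCoh.inD V O') (n + i) := fun i =>
    (DCat.SuppOpen.hdMapIso (Scheme.Modules.restrictFunctor j) K i).symm ≪≫ (homologyFunctor _ i).mapIso eV ≪≫
      ((homologyFunctor V.Modules 0).shiftIso n i (n + i) rfl).app _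
  refine ⟨n, DualLib.RelTop.exists_stalk_equiv_of_invertibleAt (DualLib.RelTop.invertibleAt_of_immersion j
    (e (-n) ≪≫ eqToIso (congrArg (fun k : ℤ => DCoh.HD (DCoh.inD V O') k) (add_neg_cancel n)) ≪≫
      (singleFunctorCompHomologyFunctorIso V.Modules 0).app O') w), fun i hi => ?_⟩
  haveI : (DCoh.inD V O').IsGE 0 := (inferInstance : ((singleFunctor V.Modules 0).obj O').IsGE 0)
  haveI : (DCoh.inD V O').IsLE 0 := (inferInstance : ((singleFunctor V.Modules 0).obj O').IsLE 0)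
  have h0 : IsZero (DCoh.HD (DCoh.inD V O') (n + i)) := by
    rcases lt_or_gt_of_ne (show n + i ≠ 0 by omega) with h | h
    · exact isZero_of_isGE _ 0 _ h
    · exact isZero_of_isLE _ 0 _ h
  exact DCat.SuppOpen.subsingleton_stalk_of_restrict j _ _
    (DCat.SuppOpen.subsingleton_of_isZero_stalkFunctor _ _ ((DerSch.stalkFunctor V w).map_isZero (h0.of_iso (e i))))

/-- A map of invertible objects onto in cohomology is an isomorphism. -/
theorem isIso_of_epi {K L : DCoh.D X} (hK : Inv K) (hL : Inv L) (φ : K ⟶ L)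
    (h : ∀ i : ℤ, Epi ((homologyFunctor X.Modules i).map φ)) : IsIso φ := by
  refine (DerivedCategory.isIso_iff _ φ).2 fun i => ZClosLib.isIso_of_bijective_stalk _ fun x => ?_
  obtain ⟨n, ⟨eM⟩, hM⟩ := hK.stalks x
  obtain ⟨m, ⟨eN⟩, hN⟩ := hL.stalks x
  let l := ((DerSch.stalkFunctor X x).map ((homologyFunctor X.Modules i).map φ)).hom
  have hs : ∀ k : ℤ, Function.Surjective ((DerSch.stalkFunctor X x).map ((homologyFunctor X.Modules k).map φ)).hom :=
    fun k => by
      haveI := h k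
      exact (ModuleCat.epi_iff_surjective _).1 inferInstance
  have hnm : n = m := by
    by_contra hne
    haveI := hM (-m) (by omega)
    haveI : Subsingleton ↑((DerSch.stalkFunctor X x).obj ((homologyFunctor X.Modules (-m)).obj K)) := hM (-m) (by omega)
    have := (hs (-m)).subsingleton
    haveI : Subsingleton ((DCoh.HD L (-m)).presheaf.stalk x) := this
    haveI := eN.symm.injective.subsingleton
    exact false_of_nontrivial_of_subsingleton (X.presheaf.stalk x)
  subst hnm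
  show Function.Bijective l
  by_cases hi : i = -n
  · subst hi
    exact DualLib.RelTop.bijective_of_surjective_of_equiv eM eN l (hs _)
  · haveI := hM i hi
    exact ⟨fun a b _ => Subsingleton.elim (α := (DCoh.HD K i).presheaf.stalk x) a b, hs i⟩

/-- Inverse images of invertible objects are invertible. -/
theorem Inv.pull {Z : Scheme.{u}} {K : DCoh.D X} (hK : Inv K) (p : Z ⟶ X) [DCoh.HasLpull p] :
    Inv ((DCoh.Lpull p).obj K) := by
  intro z
  obtain ⟨V, j, _, w, n, hw, ⟨eV⟩⟩ := hK (p z)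
  let W : Z.Opens := p ⁻¹ᵁ j.opensRange
  have hz : z ∈ W := ⟨w, hw⟩
  let q : (W : Scheme.{u}) ⟶ V := IsOpenImmersion.lift j (W.ι ≫ p) (by
    rintro _ ⟨t, rfl⟩
    exact t.2)
  have hq : q ≫ j = W.ι ≫ p := IsOpenImmersion.lift_fac _ _ _
  haveI := DCat.hasLpull W.ι
  haveI := DCat.hasLpull j
  haveI := DCat.hasLpull q
  haveI := DCat.hasLpull (W.ι ≫ p)
  haveI := DCat.hasLpull (q ≫ j)
  obtain ⟨r₁⟩ := DQCoh.nonempty_Lpull_restrict W.ι ((DCoh.Lpull p).obj K)
  obtain ⟨r₂⟩ := DQCoh.nonempty_Lpull_restrict j K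
  obtain ⟨c₁⟩ := DCat.nonempty_LpullComp W.ι p
  obtain ⟨c₂⟩ := DCat.nonempty_LpullComp q j
  obtain ⟨_, _⟩ := DCat.PullPerf.exists_commShift_Lpull q
  obtain ⟨o⟩ := Dual6Lib.RelRigid.nonempty_Lpull_structure q
  exact ⟨(W : Scheme.{u}), W.ι, inferInstance, ⟨z, hz⟩, n, rfl, ⟨r₁.symm ≪≫ c₁.app K ≪≫
    eqToIso (by congr 2; exact hq.symm) ≪≫ (c₂.app K).symm ≪≫ (DCoh.Lpull q).mapIso (r₂ ≪≫ eV) ≪≫
    ((DCoh.Lpull q).commShiftIso n).app _ ≪≫ (shiftFunctor _ n).mapIso o⟩⟩

/-- The dualizing complex of a Gorenstein morphism is invertible. -/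
theorem inv_shriek [IsNoetherian Y] (f : X ⟶ Y) [IsProper f] [Flat f] [DCoh.HasRpush f]
    (hf : DCoh.RpushPreservesQCoh f) (a : DCoh.DQCoh Y ⥤ DCoh.DQCoh X) (adj : DCoh.RpushQ f hf ⊣ a)
    (O : DCoh.DQCoh Y) (hO : Nonempty (O.obj ≅ DCoh.inD Y (Coh.structureModule Y)))
    (hG : Dual3.IsGorensteinMor f) : Inv (a.obj O).obj := by
  intro y
  haveI : Dual3.IsSepFT f := ⟨inferInstance, inferInstance, inferInstance⟩
  haveI : Dual3.IsSepFT (𝟙 Y) := ⟨inferInstance, inferInstance, inferInstance⟩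
  haveI : ∀ (S : CommRingCat.{u}), PreservesFiniteLimits (tilde.functor S) :=
    Groth.Agent.AffSchLib.preservesFiniteLimits_tilde
  let c : DEt.Compactification f :=
    { Xbar := X, j := 𝟙 X, fbar := f, isOpenImmersion := inferInstance, isProper := ‹_›, fac := Category.id_comp f }
  haveI : DCoh.HasRpush c.fbar := ‹DCoh.HasRpush f›
  haveI : IsOpenImmersion c.j := c.isOpenImmersion
  let G := (Dual3.shriekC c a).obj O
  obtain ⟨eG⟩ : Nonempty (G ≅ (a.obj O).obj) := DCat.PCTriangle.rd_id (a.obj O).obj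
  obtain ⟨U, hxU, hU⟩ := ((Groth.Agent.S3616.result Y X Y f (𝟙 _) f (Category.comp_id _) c hf a adj O hO).1 y).1 (hG y)
  obtain ⟨V, n, hxV, ⟨eV⟩⟩ := hU ⟨y, hxU⟩
  let l : (V : Scheme.{u}) ⟶ X := V.ι ≫ U.ι
  obtain ⟨cV⟩ := DCat.PerfLocal.rd_comp V.ι U.ι G
  exact ⟨V, l, inferInstance, ⟨⟨y, hxU⟩, hxV⟩, n, rfl,
    ⟨(DCoh.restrictD l).mapIso eG.symm ≪≫ cV ≪≫ eV⟩⟩

end Inv

end Groth.Agent.DualGorBC
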